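import Cfsg.Agent.Lib.BG.Basic
import Cfsg.Agent.Lib.ONU.Q
import Cfsg.Agent.Lib.T3.Hlp

/-!
# Four-groups; polycyclic bounds (helper26)
-/

set_option autoImplicit false

namespace Cfsg.Lib.HeS

open Cfsg.Lib.Calc Cfsg.Lib.Grp Cfsg.Lib.T2 Cfsg.Lib.BG Subgroup
open scoped Cfsg.Lib.Transfer

variable {G : Type*} [Group G] {V U H : Subgroup G} {a b g s t x y : G}

/-- `V = {1, a, b, a b}` -/
structure V4 (V : Subgroup G) (a b : G) : Prop where
  a1 : a ≠ 1
  b1 : b ≠ 1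
  ab : a ≠ b
  a2 : a * a = 1
  b2 : b * b = 1
  cm : a * b = b * a
  mem : ∀ x, x ∈ V ↔ x = 1 ∨ x = a ∨ x = b ∨ x = a * b

theorem cj_sq (g : G) (b : x * x = 1) : g * x * g⁻¹ * (g * x * g⁻¹) = 1 := by
  rw [conj_mul, b, mul_one, mul_inv_cancel]

theorem cj_ne (g : G) (b : x ≠ 1) : g * x * g⁻¹ ≠ 1 := conj_eq_one_iff.not.2 b

theorem cj_cm : g * x * g⁻¹ = x ↔ g * x = x * g := mul_inv_eq_iff_eq_mul

theorem ll (h : x * x = 1) (y : G) : x * (x * y) = y := by rw [← mul_assoc, h, one_mul]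

namespace V4
variable (h : V4 V a b)
include h

theorem ma : a ∈ V := (h.mem a).2 (.inr (.inl rfl))
theorem mb : b ∈ V := (h.mem b).2 (.inr (.inr (.inl rfl)))
theorem mab : a * b ∈ V := mul_mem h.ma h.mb

theorem ab1 : a * b ≠ 1 := fun e => h.ab (mul_right_cancel (e.trans h.b2.symm))

theorem symm : V4 V b a := ⟨h.b1, h.a1, h.ab.symm, h.b2, h.a2, h.cm.symm, fun x => by rw [h.mem, ← h.cm]; tauto⟩

theorem shift : V4 V a (a * b) := ⟨h.a1, h.ab1, fun e => h.b1 (left_eq_mul.1 e), h.a2,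
  by rw [mul_assoc, ← mul_assoc b, ← h.cm, mul_assoc, h.b2, mul_one, h.a2], by rw [mul_assoc, h.cm],
  fun x => by rw [h.mem, ll h.a2]; tauto⟩

theorem le (ha : a ∈ H) (hb : b ∈ H) : V ≤ H := fun x m => by
  rcases (h.mem x).1 m with rfl | rfl | rfl | rfl
  exacts [one_mem _, ha, hb, mul_mem ha hb]

theorem eq (k : V4 U a b) : V = U := le_antisymm (h.le k.ma k.mb) (k.le h.ma h.mb)

theorem cen (e : g * a = a * g) (f : g * b = b * g) : g ∈ 𝐂(V) :=
  le_cent1_iff.1 (h.le (mem_cent1.2 e.symm) (mem_cent1.2 f.symm))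

theorem abel : V ≤ 𝐂(V) := h.le (h.cen rfl h.cm) (h.cen h.cm.symm rfl)

theorem comm (m : x ∈ V) (n : y ∈ V) : x * y = y * x := h.abel n x m

theorem sq (m : x ∈ V) : x * x = 1 := by
  rcases (h.mem x).1 m with rfl | rfl | rfl | rfl
  exacts [mul_one _, h.a2, h.b2, h.shift.b2]

theorem ex (m : t ∈ V) (n : t ≠ 1) : ∃ s, V4 V t s := by
  rcases (h.mem t).1 m with rfl | rfl | rfl | rfl
  exacts [absurd rfl n, ⟨_, h⟩, ⟨_, h.symm⟩, ⟨_, h.shift.symm⟩]

theorem snd (m : t ∈ V) (n : t ≠ 1) (e : a ≠ t) : V4 V a t := by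
  rcases (h.mem t).1 m with rfl | rfl | rfl | rfl
  exacts [absurd rfl n, absurd rfl e, h, h.shift]

theorem of (m : s ∈ V) (n : t ∈ V) (c : s ≠ 1) (d : t ≠ 1) (e : s ≠ t) : V4 V s t :=
  let ⟨_, k⟩ := h.ex m c; k.snd n d e

theorem conj (g : G) : V4 (g ⋆ V) (g * a * g⁻¹) (g * b * g⁻¹) :=
  ⟨cj_ne g h.a1, cj_ne g h.b1, (MulAut.conj g).injective.ne h.ab, cj_sq g h.a2, cj_sq g h.b2,
    by rw [conj_mul, conj_mul, h.cm], fun x => by
      rw [Transfer.mem_conj, h.mem, conj_mul]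
      have k : ∀ y, g⁻¹ * x * g = y ↔ x = g * y * g⁻¹ := fun y => ⟨fun e => by rw [← e]; group, fun e => by rw [e]; group⟩
      simp only [k, mul_one, mul_inv_cancel]⟩

theorem act (m : g ∈ 𝐍(V)) (e : g * a = a * g) : g * b = b * g ∨ g * b * g⁻¹ = a * b := by
  rcases (h.mem _).1 (conj_mem_of_norm m h.mb) with f | f | f | f
  exacts [absurd f (cj_ne g h.b1), absurd ((MulAut.conj g).injective (f.trans (cj_cm.2 e).symm)) h.ab.symm,
    .inl (cj_cm.1 f), .inr f]

theorem act2 (m : g ∈ 𝐍(V)) (e : g * a = a * g) : g * g ∈ 𝐂(V) := h.cen (Commute.mul_left e e) ((h.act m e).elim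
  (fun f => Commute.mul_left f f) fun f => cj_cm.1 (by
    rw [show g * g * b * (g * g)⁻¹ = g * (g * b * g⁻¹) * g⁻¹ by group, f, ← conj_mul, f, cj_cm.2 e, ll h.a2]))

theorem actm {k : G} (m : g ∈ 𝐍(V)) (n : k ∈ 𝐍(V)) (e : g * a = a * g) (f : k * a = a * k) :
    g ∈ 𝐂(V) ∨ k ∈ 𝐂(V) ∨ g * k ∈ 𝐂(V) := (h.act m e).elim (fun u => .inl (h.cen e u)) fun u => .inr ((h.act n f).imp (h.cen f)
  fun v => h.cen (Commute.mul_left e f) (cj_cm.1 (by
    rw [show g * k * b * (g * k)⁻¹ = g * (k * b * k⁻¹) * g⁻¹ by group, v, ← conj_mul, u, cj_cm.2 e, ll h.a2])))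

theorem fix (m : g ∈ 𝐍(V)) (e : g * g = 1) : ∃ w ∈ V, w ≠ 1 ∧ g * w = w * g := by
  by_cases c : g * a = a * g
  · exact ⟨a, h.ma, h.a1, c⟩
  have n := conj_mem_of_norm m h.ma
  refine ⟨_, mul_mem n h.ma, fun f => c (cj_cm.1 (mul_right_cancel (f.trans h.a2.symm))), cj_cm.1 ?_⟩
  rw [← conj_mul, h.comm n h.ma]
  congr 1
  calc _ = g * g * a * (g * g)⁻¹ := by group
    _ = a := by rw [e]; group

theorem card : Nat.card V = 4 := by
  classical
  rw [← SetLike.coe_sort_coe, show (V : Set G) = ({1, a, b, a * b} : Finset G) from Set.ext fun x => by simpa using h.mem x,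
    Nat.card_coe_set_eq, Set.ncard_coe_finset, Finset.card_insert_of_notMem (by simp [h.a1.symm, h.b1.symm, h.ab1.symm]),
    Finset.card_insert_of_notMem (by simp [h.ab, h.b1]), Finset.card_pair (by simp [h.a1])]

theorem pg : IsPGroup 2 V := .of_card (n := 2) h.card

end V4

theorem V4.gen {γ : ℕ → G} {s t : W} (a1 : s.ev γ ≠ 1) (b1 : t.ev γ ≠ 1) (ab : s.ev γ ≠ t.ev γ) (a2 : s.ev γ * s.ev γ = 1)
    (b2 : t.ev γ * t.ev γ = 1) (cm : s.ev γ * t.ev γ = t.ev γ * s.ev γ) : V4 (genW γ [s, t]) (s.ev γ) (t.ev γ) := by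
  refine ⟨a1, b1, ab, a2, b2, cm, fun x => ⟨fun m => ?_, ?_⟩⟩
  · generalize ha : s.ev γ = a at *
    generalize hb : t.ev γ = b at *
    have c : ∀ y, b * (a * y) = a * (b * y) := fun y => by rw [← mul_assoc, ← cm, mul_assoc]
    let X : Subgroup G :=
      { carrier := {x | x = 1 ∨ x = a ∨ x = b ∨ x = a * b}
        one_mem' := .inl rfl
        mul_mem' := by
          rintro _ _ (rfl | rfl | rfl | rfl) (rfl | rfl | rfl | rfl) <;> simp [mul_assoc, a2, b2, ← cm, c, ll a2]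
        inv_mem' := by
          rintro _ (rfl | rfl | rfl | rfl) <;>
            simp [inv_eq_of_mul_eq_one_right a2, inv_eq_of_mul_eq_one_right b2, ← cm] }
    exact (genW_le (H := X)).2 (List.forall_mem_cons.2 ⟨.inr (.inl ha), List.forall_mem_singleton.2 (.inr (.inr (.inl hb)))⟩) m
  · have u := mem_genW γ (ts := [s, t]) (.head _)
    have v := mem_genW γ (ts := [s, t]) (.tail _ (.head _))
    rintro (rfl | rfl | rfl | rfl)
    exacts [one_mem _, u, v, mul_mem u v]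

/-- the relators of a polycyclic presentation by involutions -/
def pcRels : List (W × List W) → List W
  | [] => []
  | q :: P => .mul q.1 q.1 :: ((P.map Prod.fst).zip q.2).map (fun r => .mul (T3.cj q.1 r.1) (.inv r.2)) ++ pcRels P

/-- the shape of a polycyclic presentation -/
def pcOK : List (W × List W) → Bool
  | [] => true
  | q :: P => Nat.beq P.length q.2.length && q.2.all (W.overW (P.map Prod.fst)) && pcOK P

theorem pc_card [Finite G] {γ : ℕ → G} (h0 : γ 0 = 1) {P : List (W × List W)} (e : pcOK P = true)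
    (h : ∀ r ∈ pcRels P, r.ev γ = 1) : Nat.card (genW γ (P.map Prod.fst)) ≤ 2 ^ P.length := by
  induction P with
  | nil => simp [genW_nil]
  | cons q P ih =>
    simp only [pcOK, Bool.and_eq_true, Nat.beq_eq] at e
    simp only [pcRels, List.cons_append, List.forall_mem_cons, List.forall_mem_append, List.forall_mem_map] at h
    have n : q.1.ev γ ∈ 𝐍(genW γ (P.map Prod.fst)) := genW_le_normalizer (A := [q.1]) (List.forall_mem_singleton.2 fun t ht => by
      obtain ⟨i, hi, rfl⟩ := List.getElem_of_mem ht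
      have hj : i < q.2.length := by simpa [← e.1.1] using hi
      exact Set.mem_of_eq_of_mem (mul_inv_eq_one.1 (h.2.1 (_, q.2[i]) (List.mem_iff_getElem.2
        ⟨i, by simp only [List.length_zip]; omega, List.getElem_zip⟩)))
        (W.ev_mem_of_overW h0 (fun _ => mem_genW γ) (List.all_eq_true.1 e.1.2 _ (List.getElem_mem hj)))) (mem_genW γ (.head _))
    refine (card_le_of_le (genW_le.2 (List.forall_mem_cons.2 ⟨mem_sup_right (mem_zpowers _),
      fun t ht => mem_sup_left (mem_genW γ ht)⟩))).trans ((ONU.card_sup_le n h.1).trans ?_)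
    rw [List.length_cons, pow_succ]
    exact Nat.mul_le_mul_right _ (ih e.2 h.2.2)

end Cfsg.Lib.HeS
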